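import Mathlib
import Cfsg.Prelude.Def_Blocks
import Cfsg.Agent.S0907
import Cfsg.Agent.S0142
import Cfsg.Agent.Lib.Helper78.DefectZero
import Cfsg.Agent.Lib.Helper3.Eigen
import Cfsg.Agent.Lib.Helper3.Integral

set_option autoImplicit false

namespace Cfsg.Agent.Lib.Helper97

open Cfsg Cfsg.Agent.Lib.Helper78
open scoped ComplexConjugate

/-- the principal `q`-block contains a nonprincipal character of degree prime to `p`. -/
theorem exists_irr_principal {G : Type*} [Group G] [Finite G] {p q : ℕ} (hp : p.Prime)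
    (hq : q.Prime) (hqG : q ∣ Nat.card G) {M : Ideal AlgInt} (hM : IsPModular q M) :
    ∃ χ : IrrCharacter G, χ ∈ principalBlock M G ∧ χ ≠ trivIrr G ∧
      ¬ p ∣ charDegree (χ : G → ℂ) := by
  classical
  have : Fact q.Prime := ⟨hq⟩
  obtain ⟨y, hy⟩ := exists_prime_orderOf_dvd_card' q hqG
  have h := Cfsg.Agent.S0907.result q M hM (principalBlock M G) isPBlock_principalBlock 1 y
    (by rw [orderOf_one]; exact hq.one_lt.ne' ∘ Nat.dvd_one.1) (by rw [hy])
  by_contra hcon
  push Not at hcon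
  rw [finsum_mem_irr] at h
  rw [← Finset.add_sum_erase _ _ (Finset.mem_univ (trivIrr G))] at h
  rw [if_pos (trivIrr_mem_principalBlock (pmod_isPrime hM))] at h
  have h1 : ((trivIrr G : IrrCharacter G) : G → ℂ) 1 * conj (((trivIrr G : IrrCharacter G) : G → ℂ) y) = 1 := by
    simp [trivIrr]
  rw [h1] at h
  -- the rest is divisible by p
  have h2 : ∀ χ ∈ Finset.univ.erase (trivIrr G), ∃ α : ℂ, IsIntegral ℤ α ∧
      (if χ ∈ principalBlock M G then (χ : G → ℂ) 1 * conj ((χ : G → ℂ) y) else 0) = (p : ℂ) * α := by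
    intro χ hχ
    by_cases hB : χ ∈ principalBlock M G
    · obtain ⟨k, hk⟩ := hcon χ hB (Finset.ne_of_mem_erase hχ)
      refine ⟨(k : ℂ) * conj ((χ : G → ℂ) y), ?_, ?_⟩
      · refine IsIntegral.mul (isIntegral_natCast k) ?_
        rw [← irr_inv]
        exact irr_isIntegral χ _
      · rw [if_pos hB, irr_one_eq, hk]
        push_cast; ring
    · exact ⟨0, isIntegral_zero, by rw [if_neg hB]; simp⟩
  choose! α hα1 hα2 using h2
  rw [Finset.sum_congr rfl hα2, ← Finset.mul_sum] at h
  have h3 : IsIntegral ℤ (∑ χ ∈ Finset.univ.erase (trivIrr G), α χ) :=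
    IsIntegral.sum _ hα1
  have hp0 : (p : ℂ) ≠ 0 := by exact_mod_cast hp.ne_zero
  have h4 : ((1 : ℕ) : ℂ) / (p : ℂ) = - ∑ χ ∈ Finset.univ.erase (trivIrr G), α χ := by
    field_simp
    push_cast
    linear_combination h
  have h5 : p ∣ 1 := Cfsg.Agent.Lib.Helper3.nat_dvd_of_isIntegral_div hp.ne_zero (by rw [h4]; exact h3.neg)
  exact hp.one_lt.ne' (Nat.dvd_one.1 h5)


/-- a root of unity `≠ 1` congruent to `1` modulo `M` has order divisible by `q`. -/
theorem dvd_of_root_congr_one {q : ℕ} {M : Ideal AlgInt} (hM : IsPModular q M) {ω : ℂ} {N : ℕ}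
    (hN : 0 < N) (hω : ω ^ N = 1) (h1 : ω ≠ 1) (hc : MemLocalIdeal M (ω - 1)) : q ∣ N := by
  have hP := pmod_isPrime hM
  have hint : IsIntegral ℤ ω := IsIntegral.of_pow hN (by rw [hω]; exact isIntegral_one)
  have hloc : MemLocalRing M ω := memLocalRing_of_isIntegral hP hint
  have hsum : ∑ i ∈ Finset.range N, ω ^ i = 0 := by
    have := mul_geom_sum ω N
    rw [hω, sub_self] at this
    rcases mul_eq_zero.1 this with h | h
    · exact absurd (sub_eq_zero.1 h) h1
    · exact h
  have hi : ∀ i : ℕ, MemLocalIdeal M (ω ^ i - 1) := by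
    intro i
    rw [← mul_geom_sum ω i]
    exact MemLocalIdeal.mul_right hP hc (MemLocalRing.sum hP _ _ fun j _ => MemLocalRing.pow hP hloc j)
  have h2 : MemLocalIdeal M (∑ i ∈ Finset.range N, (ω ^ i - 1)) :=
    MemLocalIdeal.sum hP _ _ fun i _ => hi i
  rw [Finset.sum_sub_distrib, hsum] at h2
  simp only [Finset.sum_const, Finset.card_range, nsmul_eq_mul, mul_one, zero_sub] at h2
  have h3 := MemLocalIdeal.neg h2
  rw [neg_neg] at h3
  exact (memLocalIdeal_natCast_iff hM N).1 h3

/-- the elements acting as scalars `c` with `c ^ m = 1`. -/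
def scalarSubgroup {G : Type*} [Group G] {V : Type*} [AddCommGroup V] [Module ℂ V]
    (ρ : Representation ℂ G V) (m : ℕ) (hm : 0 < m) : Subgroup G where
  carrier := {g | ∃ c : ℂ, c ^ m = 1 ∧ ρ g = c • (LinearMap.id : V →ₗ[ℂ] V)}
  one_mem' := ⟨1, one_pow _, by rw [map_one, one_smul]; rfl⟩
  mul_mem' := by
    rintro a b ⟨c, hc, hca⟩ ⟨d, hd, hdb⟩
    refine ⟨c * d, by rw [mul_pow, hc, hd, one_mul], ?_⟩
    rw [map_mul, hca, hdb]
    ext v
    simp [smul_smul, mul_comm]
  inv_mem' := by
    rintro a ⟨c, hc, hca⟩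
    have hc0 : c ≠ 0 := by
      intro h0
      rw [h0, zero_pow hm.ne'] at hc
      exact zero_ne_one hc
    refine ⟨c⁻¹, by rw [inv_pow, hc, inv_one], ?_⟩
    have h1 : ρ a⁻¹ * ρ a = 1 := by rw [← map_mul, inv_mul_cancel, map_one]
    rw [hca] at h1
    ext v
    have h2 := LinearMap.congr_fun h1 v
    simp only [Module.End.mul_apply, LinearMap.smul_apply, LinearMap.id_coe, id_eq, map_smul,
      Module.End.one_apply] at h2
    simp only [LinearMap.smul_apply, LinearMap.id_coe, id_eq]
    conv_rhs => rw [← h2]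
    rw [smul_smul, inv_mul_cancel₀ hc0, one_smul]

theorem scalarSubgroup_normal {G : Type*} [Group G] {V : Type*} [AddCommGroup V] [Module ℂ V]
    (ρ : Representation ℂ G V) (m : ℕ) (hm : 0 < m) : (scalarSubgroup ρ m hm).Normal := by
  constructor
  rintro a ⟨c, hc, hca⟩ g
  refine ⟨c, hc, ?_⟩
  rw [map_mul, map_mul, hca]
  ext v
  have h1 : ρ g * ρ g⁻¹ = 1 := by rw [← map_mul, mul_inv_cancel, map_one]
  have h2 := LinearMap.congr_fun h1 v
  simp only [Module.End.mul_apply, Module.End.one_apply] at h2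
  simp [h2]


/-- Key step of Kazarin's theorem: if `G` is the normal closure of an element `x` whose class has
`p`-power size and `q ≠ p` is a prime divisor of `|G|`, then `x ^ q` lies in a proper normal
subgroup. -/
theorem exists_normal_of_class_pow {G : Type*} [Group G] [Finite G] {p q a : ℕ} (hp : p.Prime)
    (hq : q.Prime) (hpq : p ≠ q) (hqG : q ∣ Nat.card G) (x : G)
    (hx : (Subgroup.centralizer ({x} : Set G)).index = p ^ a)
    (hgen : Subgroup.normalClosure ({x} : Set G) = ⊤) :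
    ∃ K : Subgroup G, K.Normal ∧ K ≠ ⊤ ∧ x ^ q ∈ K := by
  classical
  have := Fintype.ofFinite G
  obtain ⟨M, hM⟩ := exists_isPModular q hq
  have hP := pmod_isPrime hM
  obtain ⟨χ, hχB, hχ1, hχp⟩ := exists_irr_principal hp hq hqG hM
  have hblock : MemLocalIdeal M (centralChar (fun _ : G => (1 : ℂ)) x - centralChar (χ : G → ℂ) x) :=
    hχB x
  obtain ⟨χf, n, ρ, hirr, rfl⟩ := χ
  have hirr' := hirr
  simp only [Helper74.charDegree_rep] at hχp
  have hfr : Module.finrank ℂ (Fin n → ℂ) = n := by simp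
  have hn0 : n ≠ 0 := by
    intro h0
    exact hχp (h0 ▸ dvd_zero p)
  have hn0' : (n : ℂ) ≠ 0 := by exact_mod_cast hn0
  have hc1 : centralChar (fun _ : G => (1 : ℂ)) x = ((p ^ a : ℕ) : ℂ) := by
    simp [centralChar, hx]
  have hnot : ¬ MemLocalIdeal M (((p ^ a : ℕ) : ℂ)) := by
    rw [memLocalIdeal_natCast_iff hM]
    intro h
    exact hpq ((Nat.prime_dvd_prime_iff_eq hq hp).1 (hq.dvd_of_dvd_pow h)).symm
  have hnot2 : ¬ MemLocalIdeal M (centralChar ρ.character x) := by
    rw [← MemLocalIdeal.congr hP hblock, hc1]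
    exact hnot
  have hχx : ρ.character x ≠ 0 := by
    intro h0
    apply hnot2
    simp only [centralChar, h0, mul_zero, zero_div]
    exact memLocalIdeal_zero hP
  have hnorm : ‖ρ.character x‖ = (Module.finrank ℂ (Fin n → ℂ) : ℝ) := by
    rcases Cfsg.Agent.S0142.result ρ x (by
      rw [hfr, hx]
      exact Nat.Coprime.pow_right _ ((Nat.Prime.coprime_iff_not_dvd hp).2 hχp).symm) with h | h
    · exact absurd h hχx
    · exact h
  obtain ⟨ω, hω⟩ := (Cfsg.Agent.Lib.Helper3.norm_char_eq_finrank_iff ρ x).1 hnorm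
  have hchar : ρ.character x = ω * n := by
    change LinearMap.trace ℂ _ (ρ x) = _
    rw [hω, map_smul, LinearMap.trace_id, hfr, smul_eq_mul]
  have hchar1 : ρ.character 1 = n := by
    rw [Representation.char_one, hfr]
  have hcc : centralChar ρ.character x = ((p ^ a : ℕ) : ℂ) * ω := by
    simp only [centralChar, hx, hchar, hchar1]
    field_simp
  have hnt : Nontrivial (Fin n → ℂ) := by
    have : Nonempty (Fin n) := ⟨⟨0, Nat.pos_of_ne_zero hn0⟩⟩
    infer_instance
  obtain ⟨v, hv⟩ := exists_ne (0 : Fin n → ℂ)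
  have hscal : ∀ c d : ℂ, c • (LinearMap.id : (Fin n → ℂ) →ₗ[ℂ] (Fin n → ℂ)) = d • LinearMap.id →
      c = d := by
    intro c d h
    have h1 := LinearMap.congr_fun h v
    simp only [LinearMap.smul_apply, LinearMap.id_coe, id_eq] at h1
    exact smul_left_injective ℂ hv h1
  have hpowx : ∀ k : ℕ, ρ (x ^ k) = ω ^ k • (LinearMap.id : (Fin n → ℂ) →ₗ[ℂ] (Fin n → ℂ)) := by
    intro k
    induction k with
    | zero => rw [pow_zero, pow_zero, map_one, one_smul]; rfl
    | succ k ih =>
      rw [pow_succ, map_mul, ih, hω, pow_succ]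
      apply LinearMap.ext
      intro w
      simp [smul_smul, mul_comm]
  have hωo : ω ^ orderOf x = 1 := by
    have h1 := hpowx (orderOf x)
    rw [pow_orderOf_eq_one, map_one] at h1
    apply hscal
    rw [← h1, one_smul]; rfl
  have hint : IsIntegral ℤ ω := IsIntegral.of_pow (orderOf_pos x) (by rw [hωo]; exact isIntegral_one)
  have hloc : MemLocalRing M ω := memLocalRing_of_isIntegral hP hint
  have hcong : MemLocalIdeal M (ω - 1) := by
    rw [hc1, hcc] at hblock
    have h1 : ((p ^ a : ℕ) : ℂ) - ((p ^ a : ℕ) : ℂ) * ω = ((p ^ a : ℕ) : ℂ) * (1 - ω) := by ring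
    rw [h1, memLocalIdeal_mul_iff hP (memLocalRing_natCast hP _)
      (MemLocalRing.sub hP (memLocalRing_one hP) hloc)] at hblock
    rcases hblock with h | h
    · exact absurd h hnot
    · have := MemLocalIdeal.neg h
      rwa [neg_sub] at this
  have hω1 : ω ≠ 1 := by
    intro h1
    rw [h1, one_smul] at hω
    -- then ρ is trivial
    have hker : Subgroup.normalClosure ({x} : Set G) ≤ (MonoidHom.ker ρ) := by
      apply Subgroup.normalClosure_le_normal
      intro y hy
      rw [Set.mem_singleton_iff] at hy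
      rw [hy]
      exact hω
    rw [hgen] at hker
    have htriv : ∀ g : G, ρ.character g = n := by
      intro g
      have : ρ g = 1 := hker (Subgroup.mem_top g)
      change LinearMap.trace ℂ _ (ρ g) = _
      rw [this]
      change LinearMap.trace ℂ _ LinearMap.id = _
      rw [LinearMap.trace_id, hfr]
    have h2 := Helper74.classInner_irr_ne hχ1
    unfold classInner at h2
    simp only [trivIrr, htriv, map_one, mul_one, Finset.sum_const, Finset.card_univ,
      nsmul_eq_mul] at h2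
    have hcard : (Nat.card G : ℂ) ≠ 0 := by exact_mod_cast (Nat.card_pos (α := G)).ne'
    rw [Nat.card_eq_fintype_card] at h2 hcard
    rw [← mul_assoc, inv_mul_cancel₀ hcard, one_mul] at h2
    exact hn0' h2
  -- the order of ω
  have hfin : IsOfFinOrder ω := isOfFinOrder_iff_pow_eq_one.2 ⟨orderOf x, orderOf_pos x, hωo⟩
  have hNpos : 0 < orderOf ω := hfin.orderOf_pos
  obtain ⟨m, hm⟩ := dvd_of_root_congr_one hM hNpos (pow_orderOf_eq_one ω) hω1 hcong
  have hmpos : 0 < m := by
    rcases Nat.eq_zero_or_pos m with h | h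
    · rw [h, mul_zero] at hm; omega
    · exact h
  refine ⟨scalarSubgroup ρ m hmpos, scalarSubgroup_normal ρ m hmpos, ?_, ?_⟩
  · intro htop
    have hxm : x ∈ scalarSubgroup ρ m hmpos := htop ▸ Subgroup.mem_top x
    obtain ⟨c, hc, hcx⟩ := hxm
    rw [hω] at hcx
    have := hscal _ _ hcx
    rw [← this] at hc
    have h1 := orderOf_dvd_of_pow_eq_one hc
    rw [hm] at h1
    have h2 := Nat.le_of_dvd hmpos h1
    have h3 : 2 * m ≤ q * m := Nat.mul_le_mul_right _ hq.two_le
    omega
  · refine ⟨ω ^ q, ?_, hpowx q⟩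
    rw [← pow_mul, ← hm, pow_orderOf_eq_one]

end Cfsg.Agent.Lib.Helper97
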