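import Mathlib
import Cfsg.Agent.Lib.Helper22.SupLemmas
import Cfsg.Agent.Lib.Helper72.SylowCount

set_option autoImplicit false

namespace Cfsg.Agent.Lib.Helper97

open Subgroup
open scoped Pointwise

universe u

theorem index_centralizer_subgroup_dvd {G : Type*} [Group G] [Finite G] (N : Subgroup G) [N.Normal]
    (y : N) : (centralizer ({y} : Set N)).index ∣ (centralizer ({(y : G)} : Set G)).index := by
  have h : centralizer ({y} : Set N) = (centralizer ({(y : G)} : Set G)).subgroupOf N := by
    ext z
    simp [mem_centralizer_singleton_iff, mem_subgroupOf, Subtype.ext_iff]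
  rw [h]
  exact Cfsg.Agent.Lib.Helper72.relIndex_dvd_index_of_normal_right _ N

theorem index_centralizer_map_dvd {G H : Type*} [Group G] [Group H] (f : G →* H)
    (hf : Function.Surjective f) (x : G) :
    (centralizer ({f x} : Set H)).index ∣ (centralizer ({x} : Set G)).index := by
  have h1 : (centralizer ({x} : Set G)).map f ≤ centralizer ({f x} : Set H) := by
    rintro _ ⟨c, hc, rfl⟩
    rw [mem_centralizer_singleton_iff]
    have hc' := mem_centralizer_singleton_iff.1 hc
    rw [← map_mul, ← map_mul, hc']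
  exact (index_dvd_of_le h1).trans (index_map_dvd _ hf)

theorem index_centralizer_pow_dvd {G : Type*} [Group G] (x : G) (k : ℕ) :
    (centralizer ({x ^ k} : Set G)).index ∣ (centralizer ({x} : Set G)).index := by
  apply index_dvd_of_le
  intro c hc
  rw [mem_centralizer_singleton_iff] at hc ⊢
  exact ((Commute.pow_right (show Commute c x from hc) k)).eq

theorem isSolvable_map' {G H : Type*} [Group G] [Group H] (f : G →* H) (K : Subgroup G)
    (hK : Group.IsSolvable K) : Group.IsSolvable (K.map f) :=
  Group.isSolvable_of_surjective (f.subgroupMap_surjective K)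

/-- the largest solvable subgroup of `N` normalised by `N`; it is normal in `G`. -/
theorem exists_solvable_radical_in {G : Type*} [Group G] [Finite G] (N : Subgroup G) [N.Normal] :
    ∃ R : Subgroup G, R ≤ N ∧ R.Normal ∧ Group.IsSolvable R ∧
      ∀ K : Subgroup G, K ≤ N → N ≤ normalizer (K : Set G) → Group.IsSolvable K → K ≤ R := by
  classical
  let S : Set (Subgroup G) := {K | K ≤ N ∧ N ≤ normalizer (K : Set G) ∧ Group.IsSolvable K}
  have hbot : (⊥ : Subgroup G) ∈ S := by
    refine ⟨bot_le, ?_, ?_⟩
    · have : (⊥ : Subgroup G).Normal := inferInstance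
      rw [normalizer_eq_top]
      exact le_top
    · infer_instance
  obtain ⟨R, -, hR⟩ := (Set.toFinite S).exists_le_maximal hbot
  have hgreat : ∀ K : Subgroup G, K ≤ N → N ≤ normalizer (K : Set G) → Group.IsSolvable K → K ≤ R := by
    intro K h1 h2 h3
    have hmem : R ⊔ K ∈ S := by
      refine ⟨sup_le hR.prop.1 h1, ?_, ?_⟩
      · intro n hn
        have a1 := hR.prop.2.1 hn
        have a2 := h2 hn
        rw [Cfsg.Agent.Lib.Helper72.mem_normalizer_iff_conj_smul_eq] at a1 a2 ⊢
        rw [Subgroup.smul_sup, a1, a2]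
      · exact Cfsg.Agent.Lib.Helper22.isSolvable_sup (h1.trans hR.prop.2.1) hR.prop.2.2 h3
    exact le_sup_right.trans (hR.le_of_ge hmem le_sup_left)
  refine ⟨R, hR.prop.1, ?_, hR.prop.2.2, hgreat⟩
  -- normality
  have hconj : ∀ g : G, MulAut.conj g • R ≤ R := by
    intro g
    apply hgreat
    · have h1 : MulAut.conj g • R ≤ MulAut.conj g • N := Subgroup.pointwise_smul_le_pointwise_smul_iff.2 hR.prop.1
      rwa [Subgroup.Normal.conj_smul_eq_self g N] at h1
    · intro n hn
      rw [Cfsg.Agent.Lib.Helper72.mem_normalizer_iff_conj_smul_eq, ← mul_smul, ← map_mul]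
      have h2 : g⁻¹ * n * g ∈ N := by
        have := (inferInstance : N.Normal).conj_mem n hn g⁻¹
        simpa using this
      have h3 := hR.prop.2.1 h2
      rw [Cfsg.Agent.Lib.Helper72.mem_normalizer_iff_conj_smul_eq] at h3
      have h4 : n * g = g * (g⁻¹ * n * g) := by group
      rw [h4, map_mul, mul_smul, h3]
    · exact isSolvable_map' _ R hR.prop.2.2
  constructor
  intro r hr g
  apply hconj g
  exact Subgroup.smul_mem_pointwise_smul r (MulAut.conj g) R hr


/-- the statement of Kazarin's theorem for a group -/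
def KazarinFor (G : Type u) [Group G] : Prop :=
  ∀ (x : G) (p a : ℕ), p.Prime → (centralizer ({x} : Set G)).index = p ^ a →
    Group.IsSolvable (normalClosure ({x} : Set G))

/-- if the normal closure is proper, use induction. -/
theorem isSolvable_normalClosure_of_ne_top {G : Type u} [Group G] [Finite G]
    (IH : ∀ (H : Type u) [Group H] [Finite H], Nat.card H < Nat.card G → KazarinFor H)
    (y : G) (p a : ℕ) (hp : p.Prime) (hy : (centralizer ({y} : Set G)).index = p ^ a)
    (hne : normalClosure ({y} : Set G) ≠ ⊤) : Group.IsSolvable (normalClosure ({y} : Set G)) := by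
  set N := normalClosure ({y} : Set G) with hN
  have hyN : y ∈ N := subset_normalClosure (Set.mem_singleton y)
  have hcard : Nat.card N < Nat.card G := by
    by_contra hcon
    push Not at hcon
    exact hne (Subgroup.eq_top_of_le_card N hcon)
  obtain ⟨b, -, hb⟩ := (Nat.dvd_prime_pow hp).1 (hy ▸ index_centralizer_subgroup_dvd N ⟨y, hyN⟩)
  have h1 := IH N hcard ⟨y, hyN⟩ p b hp hb
  obtain ⟨R, hRN, hRn, hRs, hR⟩ := exists_solvable_radical_in N
  have h2 : (normalClosure ({(⟨y, hyN⟩ : N)} : Set N)).map N.subtype ≤ R := by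
    apply hR
    · exact map_subtype_le _
    · intro n hn
      rw [mem_normalizer_iff]
      intro h
      constructor
      · rintro ⟨k, hk, rfl⟩
        exact ⟨⟨n, hn⟩ * k * ⟨n, hn⟩⁻¹, (inferInstance : (normalClosure ({(⟨y, hyN⟩ : N)} : Set N)).Normal).conj_mem k hk _, rfl⟩
      · rintro ⟨k, hk, hk2⟩
        refine ⟨⟨n, hn⟩⁻¹ * k * ⟨n, hn⟩, ?_, ?_⟩
        · have := (inferInstance : (normalClosure ({(⟨y, hyN⟩ : N)} : Set N)).Normal).conj_mem k hk ⟨n, hn⟩⁻¹
          simpa using this
        · have : (k : G) = n * h * n⁻¹ := hk2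
          simp [this, mul_assoc]
    · exact isSolvable_map' _ _ h1
  have h3 : y ∈ R := h2 ⟨⟨y, hyN⟩, subset_normalClosure (Set.mem_singleton _), rfl⟩
  have h4 : N ≤ R := normalClosure_le_normal (by simpa using h3)
  have h5 : N = R := le_antisymm h4 hRN
  rw [h5]
  exact hRs

end Cfsg.Agent.Lib.Helper97
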