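import Mathlib
import Cfsg.Agent.Lib.Helper97.KazarinChar
import Cfsg.Agent.Lib.Helper97.KazarinGroup
import Cfsg.Agent.S0144

set_option autoImplicit false

namespace Cfsg.Agent.Lib.Helper97

open Subgroup

universe u

/-- a non-solvable finite group has two distinct prime divisors different from `p`. -/
theorem exists_two_primes {G : Type*} [Group G] [Finite G] (hG : ¬ Group.IsSolvable G) (p : ℕ)
    (hp : p.Prime) : ∃ q r : ℕ, q.Prime ∧ r.Prime ∧ q ≠ r ∧ p ≠ q ∧ p ≠ r ∧ q ∣ Nat.card G ∧
      r ∣ Nat.card G := by
  set n := Nat.card G with hn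
  have hn0 : n ≠ 0 := (Nat.card_pos (α := G)).ne'
  set m := ordCompl[p] n with hm
  have hnm : ordProj[p] n * m = n := Nat.ordProj_mul_ordCompl_eq_self n p
  have hm0 : m ≠ 0 := by
    intro h; rw [h, mul_zero] at hnm; exact hn0 hnm.symm
  have hpm : ¬ p ∣ m := Nat.not_dvd_ordCompl hp hn0
  have hm1 : m ≠ 1 := by
    intro h
    apply hG
    apply Cfsg.Agent.S0144.result p p (n.factorization p) 0 hp hp
    rw [← hn, pow_zero, mul_one]
    rw [h, mul_one] at hnm
    exact hnm.symm
  set q := m.minFac with hq
  have hqp : q.Prime := Nat.minFac_prime hm1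
  have hqm : q ∣ m := Nat.minFac_dvd m
  set m' := ordCompl[q] m with hm'
  have hmm : ordProj[q] m * m' = m := Nat.ordProj_mul_ordCompl_eq_self m q
  have hqm' : ¬ q ∣ m' := Nat.not_dvd_ordCompl hqp hm0
  have hm'1 : m' ≠ 1 := by
    intro h
    apply hG
    apply Cfsg.Agent.S0144.result p q (n.factorization p) (m.factorization q) hp hqp
    rw [h, mul_one] at hmm
    rw [← hn, hmm]
    exact hnm.symm
  set r := m'.minFac with hr
  have hrp : r.Prime := Nat.minFac_prime hm'1
  have hrm' : r ∣ m' := Nat.minFac_dvd m'
  have hm'm : m' ∣ m := Nat.ordCompl_dvd m q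
  have hmn : m ∣ n := Nat.ordCompl_dvd n p
  refine ⟨q, r, hqp, hrp, ?_, ?_, ?_, hqm.trans hmn, (hrm'.trans hm'm).trans hmn⟩
  · intro h; exact hqm' (h ▸ hrm')
  · intro h; exact hpm (h ▸ hqm)
  · intro h; exact hpm (h ▸ (hrm'.trans hm'm))

theorem kazarin_aux (n : ℕ) : ∀ (G : Type u) [Group G] [Finite G], Nat.card G = n → KazarinFor G := by
  induction n using Nat.strong_induction_on with
  | _ n ih =>
    intro G _ _ hn x p a hp hx
    have IH : ∀ (H : Type u) [Group H] [Finite H], Nat.card H < Nat.card G → KazarinFor H := by
      intro H _ _ hH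
      exact ih (Nat.card H) (hn ▸ hH) H rfl
    by_cases htop : normalClosure ({x} : Set G) = ⊤
    · by_contra hns
      have hGns : ¬ Group.IsSolvable G := by
        intro h
        exact hns inferInstance
      -- no nontrivial solvable normal subgroup
      have hrad : ∀ S : Subgroup G, S.Normal → Group.IsSolvable S → S = ⊥ := by
        intro S hSn hSs
        by_contra hS
        have hcard : Nat.card (G ⧸ S) < Nat.card G := by
          rw [← Subgroup.index_eq_card, ← Subgroup.index_mul_card S]
          have h1 : 1 < Nat.card S := by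
            rw [Subgroup.one_lt_card_iff_ne_bot]; exact hS
          have h2 : 0 < S.index := Nat.pos_of_ne_zero S.index_ne_zero_of_finite
          nlinarith
        obtain ⟨b, -, hb⟩ := (Nat.dvd_prime_pow hp).1
          (hx ▸ index_centralizer_map_dvd (QuotientGroup.mk' S) (QuotientGroup.mk'_surjective S) x)
        have h3 := IH (G ⧸ S) hcard (QuotientGroup.mk' S x) p b hp hb
        have h4 : normalClosure ({QuotientGroup.mk' S x} : Set (G ⧸ S)) = ⊤ := by
          have := map_normalClosure ({x} : Set G) (QuotientGroup.mk' S) (QuotientGroup.mk'_surjective S)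
          rw [Set.image_singleton, htop] at this
          rw [← this, ← MonoidHom.range_eq_map, MonoidHom.range_eq_top]
          exact QuotientGroup.mk'_surjective S
        rw [h4] at h3
        have h5 : Group.IsSolvable (G ⧸ S) :=
          Group.isSolvable_of_surjective (f := (Subgroup.topEquiv : _ ≃* (G ⧸ S)).toMonoidHom)
            (Subgroup.topEquiv : _ ≃* (G ⧸ S)).surjective
        apply hGns
        refine Group.isSolvable_of_ker_le_range S.subtype (QuotientGroup.mk' S) ?_
        rw [QuotientGroup.ker_mk', Subgroup.range_subtype]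
      obtain ⟨q, r, hq, hr, hqr, hpq, hpr, hqG, hrG⟩ := exists_two_primes hGns p hp
      have key : ∀ s : ℕ, s.Prime → p ≠ s → s ∣ Nat.card G → x ^ s = 1 := by
        intro s hs hps hsG
        obtain ⟨K, hKn, hKtop, hxK⟩ := exists_normal_of_class_pow hp hs hps hsG x hx htop
        obtain ⟨b, -, hb⟩ := (Nat.dvd_prime_pow hp).1 (hx ▸ index_centralizer_pow_dvd x s)
        have hle : normalClosure ({x ^ s} : Set G) ≤ K := normalClosure_le_normal (by simpa using hxK)
        have hne : normalClosure ({x ^ s} : Set G) ≠ ⊤ := by
          intro h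
          rw [h] at hle
          exact hKtop (top_le_iff.1 hle)
        have h1 := isSolvable_normalClosure_of_ne_top IH (x ^ s) p b hp hb hne
        have h2 := hrad _ inferInstance h1
        have h3 : x ^ s ∈ normalClosure ({x ^ s} : Set G) := subset_normalClosure (Set.mem_singleton _)
        rw [h2] at h3
        exact h3
      have h1 : orderOf x ∣ q := orderOf_dvd_of_pow_eq_one (key q hq hpq hqG)
      have h2 : orderOf x ∣ r := orderOf_dvd_of_pow_eq_one (key r hr hpr hrG)
      have h3 : orderOf x ∣ 1 := by
        have := Nat.dvd_gcd h1 h2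
        rwa [(Nat.coprime_primes hq hr).2 hqr] at this
      have h4 : x = 1 := orderOf_eq_one_iff.1 (Nat.dvd_one.1 h3)
      apply hns
      rw [h4]
      have : normalClosure ({1} : Set G) = ⊥ := by
        apply le_antisymm _ bot_le
        exact normalClosure_le_normal (by simp)
      rw [this]
      infer_instance
    · exact isSolvable_normalClosure_of_ne_top IH x p a hp hx htop

/-- **Kazarin's theorem**: an element whose class has prime power size generates a solvable normal
subgroup. -/
theorem kazarin {G : Type*} [Group G] [Finite G] (x : G) {p a : ℕ} (hp : p.Prime)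
    (hx : (centralizer ({x} : Set G)).index = p ^ a) :
    Group.IsSolvable (normalClosure ({x} : Set G)) :=
  kazarin_aux _ G rfl x p a hp hx

end Cfsg.Agent.Lib.Helper97
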