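import Mathlib
import Cfsg.Agent.Lib.Helper97.Kazarin
import Cfsg.Agent.S0044
import Cfsg.Agent.Lib.Helper1.Cores
import Cfsg.Agent.Lib.Lead.Cores
import Cfsg.Agent.Lib.Helper91.Fitting

set_option autoImplicit false

namespace Cfsg.Agent.Lib.Helper97

open Subgroup

universe u

/-- If `O_p(K) = 1` then the Fitting subgroup has order prime to `p` (as in helper96's ClassPow). -/
theorem card_fitting_coprime {p : ℕ} (hp : p.Prime) (K : Type u) [Group K] [Finite K]
    (hcore : Cfsg.pCore p K = ⊥) : (Nat.card (Cfsg.fittingSubgroup K)).Coprime p := by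
  have : Fact p.Prime := ⟨hp⟩
  have hFn : (Cfsg.fittingSubgroup K).Normal := Cfsg.Agent.Lib.Helper91.fittingSubgroup_normal
  have hFnil : Group.IsNilpotent (Cfsg.fittingSubgroup K) :=
    Cfsg.Agent.Lib.Helper91.fittingSubgroup_isNilpotent
  obtain ⟨P⟩ : Nonempty (Sylow p (Cfsg.fittingSubgroup K)) := inferInstance
  have hPn : (P : Subgroup (Cfsg.fittingSubgroup K)).Normal := inferInstance
  have h1 : Cfsg.pCore p (Cfsg.fittingSubgroup K) = P :=
    Cfsg.Agent.Lib.Lead.pCore_eq_of_normal_sylow P
  have h2 := Cfsg.Agent.Lib.Lead.pCore_normal_subgroup_eq (p := p) (Cfsg.fittingSubgroup K)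
  rw [hcore, bot_inf_eq, h1] at h2
  have h3 : (P : Subgroup (Cfsg.fittingSubgroup K)) = ⊥ :=
    (Subgroup.map_eq_bot_iff_of_injective _ (Subgroup.subtype_injective _)).1 h2
  rw [Nat.coprime_comm, Nat.Prime.coprime_iff_not_dvd hp]
  intro hd
  exact P.ne_bot_of_dvd_card hd h3

/-- a normal `p'`-subgroup is centralised by every element of `p`-power class size. -/
theorem le_centralizer_of_coprime {G : Type*} [Group G] [Finite G] {p a : ℕ}
    (A : Subgroup G) [A.Normal] (hA : (Nat.card A).Coprime p) (y : G)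
    (hy : (centralizer ({y} : Set G)).index ∣ p ^ a) : A ≤ centralizer ({y} : Set G) := by
  rw [← relIndex_eq_one]
  have h1 : (centralizer ({y} : Set G)).relIndex A ∣ p ^ a :=
    (Cfsg.Agent.Lib.Helper72.relIndex_dvd_index_of_normal_right _ A).trans hy
  have h2 : (centralizer ({y} : Set G)).relIndex A ∣ Nat.card A := relIndex_dvd_card _ _
  have h3 := Nat.dvd_gcd h2 h1
  rw [(Nat.Coprime.pow_right a hA : Nat.gcd (Nat.card A) (p ^ a) = 1)] at h3
  exact Nat.dvd_one.1 h3

/-- With `O_p(K) = 1`, the conjugates of an element with class of `p`-power size commute. -/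
theorem commute_conj_of_pCore_eq_bot {K : Type u} [Group K] [Finite K] {p a : ℕ} (hp : p.Prime)
    (hcore : Cfsg.pCore p K = ⊥) (x : K) (hx : (centralizer ({x} : Set K)).index = p ^ a)
    (g h : K) : Commute (g * x * g⁻¹) (h * x * h⁻¹) := by
  set N := normalClosure ({x} : Set K) with hN
  have hNs : Group.IsSolvable N := kazarin x hp hx
  have hcoreN : Cfsg.pCore p N = ⊥ := by
    have h2 := Cfsg.Agent.Lib.Lead.pCore_normal_subgroup_eq (p := p) N
    rw [hcore, bot_inf_eq] at h2
    exact (Subgroup.map_eq_bot_iff_of_injective _ (Subgroup.subtype_injective _)).1 h2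
  have hF := card_fitting_coprime hp N hcoreN
  set F' := (Cfsg.fittingSubgroup N).map N.subtype with hF'
  have hF'n : F'.Normal := Cfsg.Agent.Lib.Lead.normal_map_subtype_of_characteristic N _
  have hF'c : (Nat.card F').Coprime p := by
    rw [hF', Subgroup.card_map_of_injective N.subtype_injective]
    exact hF
  have hidx : ∀ k : K, (centralizer ({k * x * k⁻¹} : Set K)).index ∣ p ^ a := by
    intro k
    have := index_centralizer_map_dvd (MulAut.conj k).toMonoidHom (MulAut.conj k).surjective x
    rw [hx] at this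
    simpa using this
  have hcent : ∀ k : K, F' ≤ centralizer ({k * x * k⁻¹} : Set K) := fun k =>
    le_centralizer_of_coprime F' hF'c _ (hidx k)
  have hmemN : ∀ k : K, k * x * k⁻¹ ∈ N := fun k =>
    (inferInstance : N.Normal).conj_mem x (subset_normalClosure (Set.mem_singleton x)) k
  have hmemF : ∀ k : K, k * x * k⁻¹ ∈ F' := by
    intro k
    have h1 : (⟨k * x * k⁻¹, hmemN k⟩ : N) ∈ centralizer (Cfsg.fittingSubgroup N : Set N) := by
      rw [mem_centralizer_iff]
      intro z hz
      have h2 : (z : K) ∈ F' := ⟨z, hz, rfl⟩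
      have h3 := mem_centralizer_singleton_iff.1 (hcent k h2)
      apply Subtype.ext
      exact h3
    exact ⟨_, Cfsg.Agent.S0044.result h1, rfl⟩
  have := mem_centralizer_singleton_iff.1 (hcent h (hmemF g))
  exact this

end Cfsg.Agent.Lib.Helper97
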